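import Mathlib.FieldTheory.IsAlgClosed.Basic
import Mathlib.Algebra.Polynomial.FieldDivision
import Mathlib.LinearAlgebra.Dual.Lemmas

/-!
# Polynomials without common zeros and linear functionals

* `lam_zero_of_two`: `P`, `Q` coprime, `deg P = D`, `deg Q ≤ D`: a functional vanishing on `h P`, `h Q` for `deg h ≤ D`
  vanishes on all polynomials of degree `≤ 2 D`;
* `lam_zero`: the same for three polynomials of degree `≤ D` without a common zero (also at infinity);
* `lam_A`: the linear system of the second differences.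
-/

set_option autoImplicit false
universe u

namespace K654.QuartAlg

open Polynomial

variable {k : Type u} [Field k]

/-- A functional vanishing on `X ^ n * A`, `n ≤ D`, vanishes on `h * A`, `deg h ≤ D`. -/
theorem lam_mul {lam : k[X] →ₗ[k] k} {A : k[X]} {D : ℕ} (h : ∀ n ≤ D, lam (X ^ n * A) = 0) {g : k[X]}
    (hg : g.natDegree ≤ D) : lam (g * A) = 0 := by
  rw [g.as_sum_range' (D + 1) (by omega), Finset.sum_mul, map_sum]
  refine Finset.sum_eq_zero fun n hn => ?_
  have hn' : n ≤ D := by have := Finset.mem_range.1 hn; omega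
  rw [← C_mul_X_pow_eq_monomial, mul_assoc, ← smul_eq_C_mul, map_smul, h n hn', smul_zero]

theorem natDegree_of_mul_le {P U : k[X]} {D E : ℕ} (hP : P.natDegree = D) (hP0 : P ≠ 0)
    (h : (U * P).natDegree ≤ D + E) : U.natDegree ≤ E := by
  by_cases hU : U = 0
  · rw [hU, natDegree_zero]; exact Nat.zero_le _
  · rw [natDegree_mul hU hP0, hP] at h
    omega

theorem exists_two {P Q : k[X]} {D : ℕ} (hD : 0 < D) (hP : P.natDegree = D) (hQ : Q.natDegree ≤ D)
    (hPQ : IsCoprime P Q) {R : k[X]} (hR : R.natDegree ≤ D + D) :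
    ∃ U V : k[X], U.natDegree ≤ D ∧ V.natDegree < D ∧ R = U * P + V * Q := by
  obtain ⟨U, V, hUV⟩ := hPQ
  have hP0 : P ≠ 0 := by
    rintro rfl
    rw [natDegree_zero] at hP
    omega
  have h1 := EuclideanDomain.div_add_mod (R * V) P
  have h2 : (R * V % P).natDegree < D := by
    rw [← hP]
    exact natDegree_mod_lt (R * V) (by rw [hP]; omega)
  have h3 : R = (R * U + (R * V / P) * Q) * P + (R * V % P) * Q := by
    linear_combination (-R) * hUV + (-Q) * h1
  refine ⟨R * U + (R * V / P) * Q, R * V % P, ?_, h2, h3⟩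
  refine natDegree_of_mul_le hP hP0 ?_
  have h4 : (R * U + (R * V / P) * Q) * P = R - (R * V % P) * Q := by linear_combination -h3
  rw [h4]
  refine (natDegree_sub_le _ _).trans (max_le hR ?_)
  refine natDegree_mul_le.trans ?_
  omega

theorem lam_zero_of_two {lam : k[X] →ₗ[k] k} {P Q : k[X]} {D : ℕ} (hD : 0 < D) (hP : P.natDegree = D)
    (hQ : Q.natDegree ≤ D) (hPQ : IsCoprime P Q) (h1 : ∀ n ≤ D, lam (X ^ n * P) = 0)
    (h2 : ∀ n ≤ D, lam (X ^ n * Q) = 0) {R : k[X]} (hR : R.natDegree ≤ D + D) : lam R = 0 := by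
  obtain ⟨U, V, hU, hV, rfl⟩ := exists_two hD hP hQ hPQ hR
  rw [map_add, lam_mul h1 hU, lam_mul h2 hV.le, add_zero]

/-- Two linear combinations without common zeros. -/
theorem exists_comb [IsAlgClosed k] {A : Fin 3 → k[X]} {D : ℕ} (hdeg : ∀ i, (A i).natDegree ≤ D)
    (hz : ∀ r : k, ∃ i, (A i).eval r ≠ 0) {P : k[X]} (hP0 : P ≠ 0) :
    ∃ x : k, IsCoprime P (A 0 + C x * A 1 + C (x ^ 2) * A 2) ∧
      (A 0 + C x * A 1 + C (x ^ 2) * A 2).natDegree ≤ D := by
  classical
  let q : k → k[X] := fun r => C ((A 0).eval r) + C ((A 1).eval r) * X + C ((A 2).eval r) * X ^ 2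
  have hq : ∀ r, q r ≠ 0 := by
    intro r h
    obtain ⟨i, hi⟩ := hz r
    apply hi
    have h0 := congrArg (fun p => p.coeff 0) h
    have h1 := congrArg (fun p => p.coeff 1) h
    have h2 := congrArg (fun p => p.coeff 2) h
    simp [q, coeff_X, coeff_C, coeff_X_pow] at h0 h1 h2
    fin_cases i
    · exact h0
    · exact h1
    · exact h2
  have hprod : ∏ r ∈ P.roots.toFinset, q r ≠ 0 := Finset.prod_ne_zero_iff.2 fun r _ => hq r
  have hinf : Infinite k := IsAlgClosed.instInfinite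
  obtain ⟨x, hx⟩ : ∃ x : k, (∏ r ∈ P.roots.toFinset, q r).eval x ≠ 0 := by
    by_contra hcon
    push Not at hcon
    exact hprod (Polynomial.funext fun x => by rw [hcon x, eval_zero])
  rw [eval_prod, Finset.prod_ne_zero_iff] at hx
  refine ⟨x, ?_, ?_⟩
  · rw [Polynomial.isCoprime_iff_aeval_ne_zero_of_isAlgClosed k k]
    intro r
    rw [Polynomial.coe_aeval_eq_eval]
    by_cases hr : P.eval r = 0
    · right
      have h1 := hx r (by rw [Multiset.mem_toFinset, mem_roots hP0]; exact hr)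
      intro h2
      apply h1
      simp only [q, eval_add, eval_mul, eval_C, eval_X, eval_pow] at h2 ⊢
      linear_combination h2
    · left; exact hr
  · refine (natDegree_add_le _ _).trans (max_le ((natDegree_add_le _ _).trans (max_le (hdeg 0) ?_)) ?_)
    · exact (natDegree_C_mul_le _ _).trans (hdeg 1)
    · exact (natDegree_C_mul_le _ _).trans (hdeg 2)

theorem lam_zero [IsAlgClosed k] {lam : k[X] →ₗ[k] k} {A : Fin 3 → k[X]} {D : ℕ} (hD : 0 < D)
    (hdeg : ∀ i, (A i).natDegree ≤ D) (hz : ∀ r : k, ∃ i, (A i).eval r ≠ 0) (hinf : ∃ i, (A i).coeff D ≠ 0)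
    (h : ∀ n ≤ D, ∀ i, lam (X ^ n * A i) = 0) {R : k[X]} (hR : R.natDegree ≤ D + D) : lam R = 0 := by
  obtain ⟨i, hi⟩ := hinf
  have hP : (A i).natDegree = D := le_antisymm (hdeg i) (le_natDegree_of_ne_zero hi)
  have hP0 : A i ≠ 0 := fun h0 => hi (by rw [h0, coeff_zero])
  obtain ⟨x, hx, hxd⟩ := exists_comb hdeg hz hP0
  refine lam_zero_of_two hD hP hxd hx (fun n hn => h n hn i) (fun n hn => ?_) hR
  have e : X ^ n * (A 0 + C x * A 1 + C (x ^ 2) * A 2) =
      X ^ n * A 0 + x • (X ^ n * A 1) + x ^ 2 • (X ^ n * A 2) := by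
    rw [smul_eq_C_mul, smul_eq_C_mul]
    ring
  rw [e, map_add, map_add, map_smul, map_smul, h n hn, h n hn, h n hn]
  simp

/-- The linear system of the second differences. -/
theorem lam_A [CharZero k] {lam : k[X] →ₗ[k] k} {G A : ℕ → k[X]} (e0 : G 0 = X ^ 2 * A 0)
    (e1 : G 1 = -2 * X * A 0 + X ^ 2 * A 1) (e2 : G 2 = A 0 - 2 * X * A 1 + X ^ 2 * A 2)
    (e3 : G 3 = A 1 - 2 * X * A 2) (e4 : G 4 = A 2) (h : ∀ m ≤ 4, ∀ j ≤ 4, lam (X ^ m * G j) = 0) :
    ∀ n ≤ 6, ∀ i ≤ 2, lam (X ^ n * A i) = 0 := by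
  have c0 : ∀ m, lam (X ^ m * G 0) = lam (X ^ (m + 2) * A 0) := fun m => by
    rw [e0]; congr 1; ring
  have c1 : ∀ m, lam (X ^ m * G 1) = -2 * lam (X ^ (m + 1) * A 0) + lam (X ^ (m + 2) * A 1) := fun m => by
    have : X ^ m * G 1 = (-2 : k) • (X ^ (m + 1) * A 0) + X ^ (m + 2) * A 1 := by
      rw [e1, smul_eq_C_mul, C_neg, map_ofNat]; ring
    rw [this, map_add, map_smul, smul_eq_mul]
  have c2 : ∀ m, lam (X ^ m * G 2) = lam (X ^ m * A 0) - 2 * lam (X ^ (m + 1) * A 1) +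
      lam (X ^ (m + 2) * A 2) := fun m => by
    have : X ^ m * G 2 = X ^ m * A 0 - (2 : k) • (X ^ (m + 1) * A 1) + X ^ (m + 2) * A 2 := by
      rw [e2, smul_eq_C_mul, map_ofNat]; ring
    rw [this, map_add, map_sub, map_smul, smul_eq_mul]
  have c3 : ∀ m, lam (X ^ m * G 3) = lam (X ^ m * A 1) - 2 * lam (X ^ (m + 1) * A 2) := fun m => by
    have : X ^ m * G 3 = X ^ m * A 1 - (2 : k) • (X ^ (m + 1) * A 2) := by
      rw [e3, smul_eq_C_mul, map_ofNat]; ring
    rw [this, map_sub, map_smul, smul_eq_mul]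
  have c4 : ∀ m, lam (X ^ m * G 4) = lam (X ^ m * A 2) := fun m => by rw [e4]
  have z0 : ∀ m ≤ 4, lam (X ^ (m + 2) * A 0) = 0 := fun m hm => by rw [← c0]; exact h m hm 0 (by omega)
  have z1 : ∀ m ≤ 4, -2 * lam (X ^ (m + 1) * A 0) + lam (X ^ (m + 2) * A 1) = 0 := fun m hm => by
    rw [← c1]; exact h m hm 1 (by omega)
  have z2 : ∀ m ≤ 4, lam (X ^ m * A 0) - 2 * lam (X ^ (m + 1) * A 1) + lam (X ^ (m + 2) * A 2) = 0 := fun m hm => by
    rw [← c2]; exact h m hm 2 (by omega)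
  have z3 : ∀ m ≤ 4, lam (X ^ m * A 1) - 2 * lam (X ^ (m + 1) * A 2) = 0 := fun m hm => by
    rw [← c3]; exact h m hm 3 (by omega)
  have z4 : ∀ m ≤ 4, lam (X ^ m * A 2) = 0 := fun m hm => by rw [← c4]; exact h m hm 4 (by omega)
  have a2 := z0 0 (by omega)
  have a3 := z0 1 (by omega)
  have a4 := z0 2 (by omega)
  have a5 := z0 3 (by omega)
  have a6 := z0 4 (by omega)
  have b0 : lam (X ^ 0 * A 1) = 0 := by linear_combination z3 0 (by omega) + 2 * z4 1 (by omega)
  have b1 : lam (X ^ 1 * A 1) = 0 := by linear_combination z3 1 (by omega) + 2 * z4 2 (by omega)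
  have b2 : lam (X ^ 2 * A 1) = 0 := by linear_combination z3 2 (by omega) + 2 * z4 3 (by omega)
  have b3 : lam (X ^ 3 * A 1) = 0 := by linear_combination z3 3 (by omega) + 2 * z4 4 (by omega)
  have b4 : lam (X ^ 4 * A 1) = 0 := by linear_combination z1 2 (by omega) + 2 * a3
  have b5 : lam (X ^ 5 * A 1) = 0 := by linear_combination z1 3 (by omega) + 2 * a4
  have b6 : lam (X ^ 6 * A 1) = 0 := by linear_combination z1 4 (by omega) + 2 * a5
  have c5 : lam (X ^ 5 * A 2) = 0 := by linear_combination (-1 / 2 : k) * z3 4 (by omega) + (1 / 2 : k) * b4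
  have a1 : lam (X ^ 1 * A 0) = 0 := by linear_combination (-1 / 2 : k) * z1 0 (by omega) + (1 / 2 : k) * b2
  have a0 : lam (X ^ 0 * A 0) = 0 := by linear_combination z2 0 (by omega) + 2 * b1 - z4 2 (by omega)
  have c6 : lam (X ^ 6 * A 2) = 0 := by linear_combination z2 4 (by omega) + 2 * b5 - a4
  intro n hn i hi
  interval_cases i <;> interval_cases n
  exacts [a0, a1, a2, a3, a4, a5, a6, b0, b1, b2, b3, b4, b5, b6, z4 0 (by omega), z4 1 (by omega),
    z4 2 (by omega), z4 3 (by omega), z4 4 (by omega), c5, c6]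

end K654.QuartAlg
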