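import Groth.Agent.Fano.K475.ConHom
import Groth.Agent.Lefpen.H717.ProjIrr

/-!
# Homomorphisms from the conormal sheaf of a rational normal quartic on a smooth cubic threefold

* `exists_lin`: the values of `θ : conormal i₀ ⟶ O(a)` on a form of degree `e` vanishing on the curve are a linear
  form if `a + d e = 1`;
* `syz`: syzygies give relations between these linear forms;
* `hom_conormal_quartic`: `Hom(conormal i, O(-7)) = 0` for a rational normal quartic `i : P^1 → V_+(f)`.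
-/

set_option autoImplicit false
set_option linter.unusedSectionVars false
universe u

open CategoryTheory AlgebraicGeometry Limits TopologicalSpace Opposite

namespace K654.QuartHom

open LefPen Groth.Agent.Lefpen.H705.HypIdeal Groth.Agent.Fano.K714.Rat
open K390.PnSec K330.FormSec K693.ConFam K475.ConForm K475.ConAlg K475.ConHom

variable {k : Type u} [Field k]

/-- A linear form in two variables. -/
noncomputable def l2 (a b : k) : MvPolynomial (Fin 2) k :=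
  MvPolynomial.C a * MvPolynomial.X 0 + MvPolynomial.C b * MvPolynomial.X 1

theorem l2_zero : l2 (0 : k) 0 = 0 := by simp [l2]

theorem exists_lin_form (g : Γ(Twist.twistProjSpace 1 k 1, ⊤)) :
    ∃ a b : k, ∀ x : (⊤ : (CohB1.ProjSpace 1 k).Opens), tv g x = al x (l2 a b) := by
  obtain ⟨p, hp⟩ := K699.TwHom.exists_poly (n := 1) (R := k) (d := 1) g
  have h : p.1 ∈ Submodule.span k (Set.range (MvPolynomial.X : Fin 2 → MvPolynomial (Fin 2) k)) := by
    rw [← MvPolynomial.homogeneousSubmodule_one_eq_span_X]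
    exact p.2
  obtain ⟨w, hw⟩ := (Submodule.mem_span_range_iff_exists_fun k).mp h
  refine ⟨w 0, w 1, fun x => (hp x.1 x.2).trans ?_⟩
  rw [l2, ← MvPolynomial.smul_eq_C_mul, ← MvPolynomial.smul_eq_C_mul]
  rw [Fin.sum_univ_two] at hw
  exact congrArg _ hw.symm

section Main

variable {X₀ : Scheme.{u}} (i₀ : CohB1.ProjSpace 1 k ⟶ X₀) (j₀ : X₀ ⟶ CohB1.ProjSpace 4 k)
  [IsClosedImmersion i₀] [IsClosedImmersion j₀] {d : ℕ} (c : Fin (d + 1) → Fin 5 → k)
  (hφ : GivenBy (i₀ ≫ j₀) (Twist.twistProjSpace 1 k (d : ℤ)) (fun l => glob (bform c l)))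
  (hr : (i₀ ≫ j₀) ≫ CohB1.ProjSpace.toSpec 4 k = CohB1.ProjSpace.toSpec 1 k)
  {a : ℤ} (θ : Omega.conormal i₀ ⟶ Twist.twistProjSpace 1 k a)

/-- The linear form of the values of `θ` on `G`. -/
def IsVal (e : ℕ) (G : MvPolynomial (Fin 5) k) (p : MvPolynomial (Fin 2) k) : Prop :=
  ∀ (j : Fin 5) (x : VV i₀ j₀ j), T i₀ j₀ θ j G x * al x (bform c j).1 ^ e = al x p

include hφ hr in
theorem exists_lin {e : ℕ} {G : MvPolynomial (Fin 5) k} (hG : G.IsHomogeneous e) (h : sbc c G = 0)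
    (h0 : a + (d * e : ℕ) = 1) : ∃ α β : k, IsVal i₀ j₀ c θ e G (l2 α β) := by
  obtain ⟨g, hg⟩ := exists_glue i₀ j₀ (bform c) hφ hr θ hG h h0
  obtain ⟨α, β, hκ⟩ := exists_lin_form g
  exact ⟨α, β, fun j x => (hg j x).symm.trans (hκ ⟨x.1, trivial⟩)⟩

include hφ in
theorem T_of_isVal_zero {e : ℕ} {G : MvPolynomial (Fin 5) k} (h : IsVal i₀ j₀ c θ e G 0) (j : Fin 5)
    (x : VV i₀ j₀ j) : T i₀ j₀ θ j G x = 0 := by
  have h1 := h j x
  rw [map_zero] at h1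
  exact (mul_eq_zero.1 h1).resolve_right (pow_ne_zero _ (al_ne_zero i₀ j₀ _ hφ j x))

include hφ hr in
theorem syz {e : ℕ} {G1 G2 G3 : MvPolynomial (Fin 5) k} (hG1 : G1.IsHomogeneous e) (hG2 : G2.IsHomogeneous e)
    (hG3 : G3.IsHomogeneous e) (h1 : sbc c G1 = 0) (h2 : sbc c G2 = 0) (h3 : sbc c G3 = 0)
    {p1 p2 p3 : MvPolynomial (Fin 2) k} (v1 : IsVal i₀ j₀ c θ e G1 p1) (v2 : IsVal i₀ j₀ c θ e G2 p2)
    (v3 : IsVal i₀ j₀ c θ e G3 p3) {A1 A2 A3 : MvPolynomial (Fin 5) k} (hA1 : A1.IsHomogeneous 1)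
    (hA2 : A2.IsHomogeneous 1) (hA3 : A3.IsHomogeneous 1) (hrel : A1 * G1 + A2 * G2 + A3 * G3 = 0)
    (hne : Nonempty (CohB1.ProjSpace 1 k)) :
    sbc c A1 * p1 + sbc c A2 * p2 + sbc c A3 * p3 = 0 := by
  obtain ⟨y⟩ := hne
  obtain ⟨j, hj⟩ : ∃ j, y ∈ VV i₀ j₀ j := by
    have hx : y ∈ ⨆ j, VV i₀ j₀ j := by rw [iSup_VV]; trivial
    exact Opens.mem_iSup.1 hx
  let x : VV i₀ j₀ j := ⟨y, hj⟩
  have r1 := rho_dl i₀ j₀ (bform c) hφ hr hG1 h1 j
  have r2 := rho_dl i₀ j₀ (bform c) hφ hr hG2 h2 j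
  have r3 := rho_dl i₀ j₀ (bform c) hφ hr hG3 h3 j
  have hz : T i₀ j₀ θ j (A1 * G1 + A2 * G2 + A3 * G3) x = 0 := by
    rw [hrel]
    exact T_zero i₀ j₀ θ j x
  have q1 : rho i₀ j₀ (chart 4 k j) (dl k j (A1 * G1)) = 0 := by rw [map_mul, map_mul, r1, mul_zero]
  have q2 : rho i₀ j₀ (chart 4 k j) (dl k j (A2 * G2)) = 0 := by rw [map_mul, map_mul, r2, mul_zero]
  have q3 : rho i₀ j₀ (chart 4 k j) (dl k j (A3 * G3)) = 0 := by rw [map_mul, map_mul, r3, mul_zero]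
  rw [T_add i₀ j₀ θ x (by rw [map_add, map_add, q1, q2, add_zero]) q3, T_add i₀ j₀ θ x q1 q2,
    T_mul i₀ j₀ θ x _ r1, T_mul i₀ j₀ θ x _ r2, T_mul i₀ j₀ θ x _ r3] at hz
  have c1 := chi_hom i₀ j₀ (bform c) hφ hr j x hA1
  have c2 := chi_hom i₀ j₀ (bform c) hφ hr j x hA2
  have c3 := chi_hom i₀ j₀ (bform c) hφ hr j x hA3
  have w1 := v1 j x
  have w2 := v2 j x
  have w3 := v3 j x
  refine al_injective x ?_
  rw [map_zero, map_add, map_add, map_mul, map_mul, map_mul]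
  have e1 : al x (sbc c A1) = chi i₀ j₀ j x A1 * al x (bform c j).1 ^ 1 := c1.symm
  have e2 : al x (sbc c A2) = chi i₀ j₀ j x A2 * al x (bform c j).1 ^ 1 := c2.symm
  have e3 : al x (sbc c A3) = chi i₀ j₀ j x A3 * al x (bform c j).1 ^ 1 := c3.symm
  rw [e1, e2, e3, ← w1, ← w2, ← w3]
  linear_combination (al x (bform c j).1 ^ 1 * al x (bform c j).1 ^ e) * hz

end Main

section Alg

/-- The relations between the linear forms `h_ij` force all of them to vanish. -/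
theorem lin_alg [CharZero k] {a01 b01 a02 b02 a03 b03 a12 b12 a13 b13 a23 b23 : k}
    (h012 : ∀ s t : k, s ^ 2 * (a12 * s + b12 * t) - s * t * (a02 * s + b02 * t) + t ^ 2 * (a01 * s + b01 * t) = 0)
    (h123 : ∀ s t : k, s ^ 2 * (a23 * s + b23 * t) - s * t * (a13 * s + b13 * t) + t ^ 2 * (a12 * s + b12 * t) = 0)
    (h013 : ∀ s t : k, s ^ 3 * (a13 * s + b13 * t) - s ^ 2 * t * (a03 * s + b03 * t) +
      t ^ 3 * (a01 * s + b01 * t) = 0) :
    (a01 = 0 ∧ b01 = 0) ∧ (a02 = 0 ∧ b02 = 0) ∧ (a03 = 0 ∧ b03 = 0) := by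
  have p1 := h012 1 0
  have p2 := h012 0 1
  have p3 := h012 1 1
  have p4 := h012 1 (-1)
  have q2 := h123 0 1
  have q1 := h123 1 0
  have q3 := h123 1 1
  have q4 := h123 1 (-1)
  have r1 := h013 1 0
  have r3 := h013 1 1
  have r4 := h013 1 (-1)
  have r5 := h013 1 2
  have e1 : a12 = 0 := by linear_combination p1
  have e2 : b01 = 0 := by linear_combination p2
  have e3 : b12 = 0 := by linear_combination q2
  have e4 : a01 - b02 = 0 := by linear_combination (1 / 2 : k) * (p3 + p4) - e1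
  have e5 : b12 - a02 = 0 := by linear_combination (1 / 2 : k) * (p3 - p4) - e2
  have e6 : a13 = 0 := by linear_combination r1
  have e7 : a12 - b13 = 0 := by linear_combination (1 / 2 : k) * (q3 + q4) - q1
  have e8 : b13 = 0 := by linear_combination e1 - e7
  have e9 : b03 = 0 := by linear_combination (-1 / 2 : k) * (r3 + r4) + e6 + e2
  have e10 : a01 - a03 = 0 := by linear_combination (1 / 2 : k) * (r3 - r4) - e8
  have e11 : a01 = 0 := by
    linear_combination (1 / 6 : k) * r5 - (1 / 3 : k) * e8 - (1 / 6 : k) * e6 + (2 / 3 : k) * e9 - (8 / 3 : k) * e2 -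
      (1 / 3 : k) * e10
  exact ⟨⟨e11, e2⟩, ⟨by linear_combination e3 - e5, by linear_combination e11 - e4⟩,
    ⟨by linear_combination e11 - e10, e9⟩⟩

end Alg

theorem hom_conormal_quartic {k : Type u} [Field k] [IsAlgClosed k] [CharZero k] (f : LefPen.Form 4 k 3)
    (i : CohB1.ProjSpace 1 k ⟶ Xf f) [IsClosedImmersion i]
    (c : Fin 5 → Fin 5 → k) (hc : c ∈ Par f 4) (hi : IsPar f 4 c i)
    (θ : Omega.conormal i ⟶ Twist.twistProjSpace 1 k (-7)) : θ = 0 := by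
  have hφ : GivenBy (i ≫ emb f) (Twist.twistProjSpace 1 k ((4 : ℕ) : ℤ)) (fun l => glob (bform (d := 4) c l)) := hi.2
  have hr : (i ≫ emb f) ≫ CohB1.ProjSpace.toSpec 4 k = CohB1.ProjSpace.toSpec 1 k := by
    rw [Category.assoc]; exact hi.1
  obtain ⟨b, hb⟩ := exists_dual (d := 4) hc.1
  -- the minors
  let M : Fin 5 → Fin 5 → Fin 5 → Fin 5 → MvPolynomial (Fin 5) k := fun p q r s =>
    lf (b p) * lf (b q) - lf (b r) * lf (b s)
  have hMh : ∀ p q r s, (M p q r s).IsHomogeneous 2 := fun p q r s =>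
    ((isHomogeneous_lf _).mul (isHomogeneous_lf _)).sub ((isHomogeneous_lf _).mul (isHomogeneous_lf _))
  have e0 : sbc (d := 4) c (lf (b 0)) = MvPolynomial.X 0 ^ 4 := by
    rw [sbc_lf hb]; simp
  have e1 : sbc (d := 4) c (lf (b 1)) = MvPolynomial.X 0 ^ 3 * MvPolynomial.X 1 := by
    rw [sbc_lf hb]; simp
  have e2 : sbc (d := 4) c (lf (b 2)) = MvPolynomial.X 0 ^ 2 * MvPolynomial.X 1 ^ 2 := by
    rw [sbc_lf hb]; simp
  have e3 : sbc (d := 4) c (lf (b 3)) = MvPolynomial.X 0 * MvPolynomial.X 1 ^ 3 := by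
    rw [sbc_lf hb]; simp
  have e4 : sbc (d := 4) c (lf (b 4)) = MvPolynomial.X 1 ^ 4 := by
    rw [sbc_lf hb]; simp
  have s01 : sbc (d := 4) c (M 0 2 1 1) = 0 := by
    rw [sbc_sub, sbc_mul, sbc_mul, e0, e1, e2]; ring
  have s02 : sbc (d := 4) c (M 0 3 2 1) = 0 := by
    rw [sbc_sub, sbc_mul, sbc_mul, e0, e1, e2, e3]; ring
  have s03 : sbc (d := 4) c (M 0 4 3 1) = 0 := by
    rw [sbc_sub, sbc_mul, sbc_mul, e0, e1, e3, e4]; ring
  have s12 : sbc (d := 4) c (M 1 3 2 2) = 0 := by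
    rw [sbc_sub, sbc_mul, sbc_mul, e1, e2, e3]; ring
  have s13 : sbc (d := 4) c (M 1 4 3 2) = 0 := by
    rw [sbc_sub, sbc_mul, sbc_mul, e1, e2, e3, e4]; ring
  have s23 : sbc (d := 4) c (M 2 4 3 3) = 0 := by
    rw [sbc_sub, sbc_mul, sbc_mul, e2, e3, e4]; ring
  obtain ⟨a01, b01, v01⟩ := exists_lin i (emb f) (d := 4) c hφ hr θ (hMh 0 2 1 1) s01 (by norm_num)
  obtain ⟨a02, b02, v02⟩ := exists_lin i (emb f) (d := 4) c hφ hr θ (hMh 0 3 2 1) s02 (by norm_num)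
  obtain ⟨a03, b03, v03⟩ := exists_lin i (emb f) (d := 4) c hφ hr θ (hMh 0 4 3 1) s03 (by norm_num)
  obtain ⟨a12, b12, v12⟩ := exists_lin i (emb f) (d := 4) c hφ hr θ (hMh 1 3 2 2) s12 (by norm_num)
  obtain ⟨a13, b13, v13⟩ := exists_lin i (emb f) (d := 4) c hφ hr θ (hMh 1 4 3 2) s13 (by norm_num)
  obtain ⟨a23, b23, v23⟩ := exists_lin i (emb f) (d := 4) c hφ hr θ (hMh 2 4 3 3) s23 (by norm_num)
  have hne : Nonempty (CohB1.ProjSpace 1 k) := (Groth.Agent.Lefpen.H717.ProjIrr.irreducibleSpace_projSpace 1 k).toNonempty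
  have hneg : ∀ m, (-lf (b m)).IsHomogeneous 1 := fun m => (isHomogeneous_lf (b m)).neg
  have sneg : ∀ m, sbc (d := 4) c (-lf (b m)) = - sbc (d := 4) c (lf (b m)) := fun m =>
    map_neg (MvPolynomial.eval₂Hom MvPolynomial.C (fun l => (bform (d := 4) c l).1)) _
  have t012 := syz i (emb f) (d := 4) c hφ hr θ (hMh 1 3 2 2) (hMh 0 3 2 1) (hMh 0 2 1 1) s12 s02 s01 v12 v02 v01
    (isHomogeneous_lf (b 0)) (hneg 1) (isHomogeneous_lf (b 2))
    (by simp only [M]; ring) hne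
  have t123 := syz i (emb f) (d := 4) c hφ hr θ (hMh 2 4 3 3) (hMh 1 4 3 2) (hMh 1 3 2 2) s23 s13 s12 v23 v13 v12
    (isHomogeneous_lf (b 1)) (hneg 2) (isHomogeneous_lf (b 3))
    (by simp only [M]; ring) hne
  have t013 := syz i (emb f) (d := 4) c hφ hr θ (hMh 1 4 3 2) (hMh 0 4 3 1) (hMh 0 2 1 1) s13 s03 s01 v13 v03 v01
    (isHomogeneous_lf (b 0)) (hneg 1) (isHomogeneous_lf (b 3))
    (by simp only [M]; ring) hne
  rw [sneg, e0, e1, e2] at t012
  rw [sneg, e1, e2, e3] at t123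
  rw [sneg, e0, e1, e3] at t013
  have x0 : (MvPolynomial.X 0 : MvPolynomial (Fin 2) k) ≠ 0 := MvPolynomial.X_ne_zero _
  have x1 : (MvPolynomial.X 1 : MvPolynomial (Fin 2) k) ≠ 0 := MvPolynomial.X_ne_zero _
  have u012 : MvPolynomial.X 0 ^ 2 * l2 a12 b12 - MvPolynomial.X 0 * MvPolynomial.X 1 * l2 a02 b02 +
      MvPolynomial.X 1 ^ 2 * l2 a01 b01 = 0 := by
    refine (mul_eq_zero.1 (?_ : (MvPolynomial.X 0 : MvPolynomial (Fin 2) k) ^ 2 * _ = 0)).resolve_left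
      (pow_ne_zero _ x0)
    linear_combination t012
  have u123 : MvPolynomial.X 0 ^ 2 * l2 a23 b23 - MvPolynomial.X 0 * MvPolynomial.X 1 * l2 a13 b13 +
      MvPolynomial.X 1 ^ 2 * l2 a12 b12 = 0 := by
    refine (mul_eq_zero.1 (?_ : (MvPolynomial.X 0 * MvPolynomial.X 1 : MvPolynomial (Fin 2) k) * _ = 0)).resolve_left
      (mul_ne_zero x0 x1)
    linear_combination t123
  have u013 : MvPolynomial.X 0 ^ 3 * l2 a13 b13 - MvPolynomial.X 0 ^ 2 * MvPolynomial.X 1 * l2 a03 b03 +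
      MvPolynomial.X 1 ^ 3 * l2 a01 b01 = 0 := by
    refine (mul_eq_zero.1 (?_ : (MvPolynomial.X 0 : MvPolynomial (Fin 2) k) * _ = 0)).resolve_left x0
    linear_combination t013
  obtain ⟨⟨z1, z2⟩, ⟨z3, z4⟩, z5, z6⟩ := lin_alg (a01 := a01) (b01 := b01) (a02 := a02) (b02 := b02) (a03 := a03)
    (b03 := b03) (a12 := a12) (b12 := b12) (a13 := a13) (b13 := b13) (a23 := a23) (b23 := b23)
    (fun s t => by
      have := congrArg (MvPolynomial.eval (![s, t] : Fin 2 → k)) u012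
      simpa [l2] using this)
    (fun s t => by
      have := congrArg (MvPolynomial.eval (![s, t] : Fin 2 → k)) u123
      simpa [l2] using this)
    (fun s t => by
      have := congrArg (MvPolynomial.eval (![s, t] : Fin 2 → k)) u013
      simpa [l2] using this)
  rw [z1, z2, l2_zero] at v01
  rw [z3, z4, l2_zero] at v02
  rw [z5, z6, l2_zero] at v03
  have t1 := T_of_isVal_zero i (emb f) (d := 4) c hφ θ v01
  have t2 := T_of_isVal_zero i (emb f) (d := 4) c hφ θ v02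
  have t3 := T_of_isVal_zero i (emb f) (d := 4) c hφ θ v03
  refine eq_zero_of_rel i (emb f) (d := 4) hφ hr θ hb (by norm_num) (m1 := 1) rfl fun m j x => ?_
  have r1 := rho_dl i (emb f) (bform (d := 4) c) hφ hr (hMh 0 2 1 1) s01 j
  have r2 := rho_dl i (emb f) (bform (d := 4) c) hφ hr (hMh 0 3 2 1) s02 j
  have r3 := rho_dl i (emb f) (bform (d := 4) c) hφ hr (hMh 0 4 3 1) s03 j
  have q : ∀ (A G : MvPolynomial (Fin 5) k), rho i (emb f) (chart 4 k j) (dl k j G) = 0 →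
      rho i (emb f) (chart 4 k j) (dl k j (A * G)) = 0 := fun A G h => by rw [map_mul, map_mul, h, mul_zero]
  fin_cases m
  · simpa using T_zero i (emb f) θ j x
  · simpa using T_zero i (emb f) θ j x
  · have h1 : lf (b 0) ^ 2 * lf (b 2) - lf (b 0) * lf (b 1) ^ 2 = lf (b 0) * M 0 2 1 1 := by
      simp only [M]
      ring
    change T i (emb f) θ j (lf (b 0) ^ 2 * lf (b 2) - lf (b 0) * lf (b 1) ^ 2) x = 0
    rw [h1, T_mul i (emb f) θ x _ r1, t1, mul_zero]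
  · have h1 : lf (b 0) ^ 3 * lf (b 3) - lf (b 0) * lf (b 1) ^ 3 =
        lf (b 0) ^ 2 * M 0 3 2 1 + lf (b 0) * lf (b 1) * M 0 2 1 1 := by
      simp only [M]
      ring
    change T i (emb f) θ j (lf (b 0) ^ 3 * lf (b 3) - lf (b 0) * lf (b 1) ^ 3) x = 0
    rw [h1, T_add i (emb f) θ x (q _ _ r2) (q _ _ r1), T_mul i (emb f) θ x _ r2, T_mul i (emb f) θ x _ r1, t1, t2,
      mul_zero, mul_zero, add_zero]
  · have h1 : lf (b 0) ^ 4 * lf (b 4) - lf (b 0) * lf (b 1) ^ 4 =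
        (lf (b 0) ^ 3 * M 0 4 3 1 + lf (b 0) ^ 2 * lf (b 1) * M 0 3 2 1) + lf (b 0) * lf (b 1) ^ 2 * M 0 2 1 1 := by
      simp only [M]
      ring
    change T i (emb f) θ j (lf (b 0) ^ 4 * lf (b 4) - lf (b 0) * lf (b 1) ^ 4) x = 0
    rw [h1, T_add i (emb f) θ x (by rw [map_add, map_add, q _ _ r3, q _ _ r2, add_zero]) (q _ _ r1),
      T_add i (emb f) θ x (q _ _ r3) (q _ _ r2), T_mul i (emb f) θ x _ r3, T_mul i (emb f) θ x _ r2,
      T_mul i (emb f) θ x _ r1, t1, t2, t3, mul_zero, mul_zero, mul_zero, add_zero, add_zero]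

end K654.QuartHom
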