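import Groth.Agent.Fano.K654.QuartHom
import Groth.Agent.Fano.K387.RatNormal
import Groth.Agent.Fano.K287.ConDeg
import Groth.Agent.Fano.K714.ConSplit
import Groth.Agent.Fano.K560.RegPt

/-!
# The Hilbert scheme of a smooth cubic threefold at rational normal quartics

For a rational normal quartic `i : P^1 → V_+(f)` (`c ∈ Par f 4`, `IsPar f 4 c i`) on a smooth cubic threefold:
* `exists_split_quartic`: `conormal i = O(a) ⊕ O(b)` with `-6 ≤ a ≤ b ≤ 0`, `a + b = -6`;
* `normal_quartic`: `H¹(N) = 0`, `h⁰(N) = 8`;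
* `regular_quartic`, `regular_of_isClass`: the Hilbert scheme is regular of dimension `8` at `[i]`.
-/

set_option autoImplicit false
universe u
open CategoryTheory CategoryTheory.Limits AlgebraicGeometry TopologicalSpace Opposite

namespace K654.QuartReg

open Groth.Agent.Fano.K714.Rat

variable {k : Type u} [Field k]

theorem hdeg_of_isPar {f : LefPen.Form 4 k 3} {d : ℕ} {c : Fin (d + 1) → Fin 5 → k}
    {i : CohB1.ProjSpace 1 k ⟶ Xf f} (hi : IsPar f d c i) :
    Nonempty ((Scheme.Modules.pullback (i ≫ emb f)).obj (Twist.twistProjSpace 4 k 1) ≅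
      Twist.twistProjSpace 1 k (d : ℤ)) := by
  obtain ⟨-, τ, -⟩ := hi
  exact ⟨τ⟩

variable [IsAlgClosed k] [CharZero k] (f : LefPen.Form 4 k 3) (hf : f ≠ 0) [Smooth (ps f)]

include hf in
theorem exists_split_quartic {c : Fin 5 → Fin 5 → k} (hc : c ∈ Par f 4) (i : CohB1.ProjSpace 1 k ⟶ Xf f)
    [IsClosedImmersion i] (hi : IsPar f 4 c i) :
    ∃ a b : ℤ, -6 ≤ a ∧ a ≤ b ∧ b ≤ 0 ∧ a + b = -6 ∧
      Nonempty (Omega.conormal i ≅ ∐ fun j : Fin 2 => Twist.twistProjSpace 1 k (![a, b] j)) := by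
  obtain ⟨a, b, h1, h2, h3, h4, -⟩ := Groth.Agent.Fano.K714.ConSplit.exists_split
    (Groth.Agent.Fano.K287.ConDeg.locFree_conormal f hf i hi.1) (-6) (-7)
    (fun a ha => by
      have h := Groth.Agent.Fano.K287.ConDeg.extPow_conormal f hf i hi.1 4 (hdeg_of_isPar (d := 4) hi) a ha
      rw [h]; norm_num)
    (fun θ => K654.QuartHom.hom_conormal_quartic f i c hc hi θ)
  exact ⟨a, b, by omega, h2, by omega, h3, h4⟩

include hf in
/-- The cohomology of the normal sheaf. -/
theorem normal_quartic {c : Fin 5 → Fin 5 → k} (hc : c ∈ Par f 4) (i : CohB1.ProjSpace 1 k ⟶ Xf f)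
    [IsClosedImmersion i] (hi : IsPar f 4 c i) :
    Subsingleton (Coh.HH (CohB1.ProjSpace 1 k)
        ((DCoh.sheafHom (Omega.conormal i)).obj (Coh.structureModule (CohB1.ProjSpace 1 k))) 1) ∧
      Module.finrank k (Coh.HH (CohB1.ProjSpace 1 k)
        ((DCoh.sheafHom (Omega.conormal i)).obj (Coh.structureModule (CohB1.ProjSpace 1 k))) 0) = 8 := by
  obtain ⟨a, b, h1, h2, h3, h4, e⟩ := exists_split_quartic f hf hc i hi
  obtain ⟨h5, h6⟩ := K560.NormP1.normal i ![a, b] (by
    intro j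
    fin_cases j
    · change a ≤ 1
      omega
    · change b ≤ 1
      omega) e
  refine ⟨h5, ?_⟩
  have h7 : (![a, b] : Fin 2 → ℤ) 0 = a := rfl
  have h8 : (![a, b] : Fin 2 → ℤ) 1 = b := rfl
  rw [h7, h8] at h6
  omega

include hf in
/-- The Hilbert scheme is regular of dimension `8` at a rational normal quartic. -/
theorem regular_quartic (H : Over (Spec (CommRingCat.of k))) (Z : FGA.HilbSet (ps f) H)
    (hH : FGA.HilbRepresentedBy (ps f) H Z) {c : Fin 5 → Fin 5 → k} (hc : c ∈ Par f 4)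
    (i : CohB1.ProjSpace 1 k ⟶ Xf f) (hi : IsPar f 4 c i)
    (h : pt k ⟶ H) (hh : FGA.hilbPull (ps f) h Z.1 = i.ker.comap (pullback.fst (ps f) (pt k).hom)) :
    IsRegularLocalRing (H.left.presheaf.stalk (h.left.base (IsLocalRing.closedPoint k))) ∧
      ringKrullDim (H.left.presheaf.stalk (h.left.base (IsLocalRing.closedPoint k))) = 8 := by
  have := K387.RatNormal.isClosedImmersion f (d := 4) (by norm_num) hc.1 hi
  obtain ⟨a, b, h1, h2, h3, h4, e⟩ := exists_split_quartic f hf hc i hi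
  exact K560.RegPt.regular_of_conormal f hf H Z hH i hi.1 h hh ![a, b] (by
    intro j
    fin_cases j
    · change a ≤ 1
      omega
    · change b ≤ 1
      omega) 8 (by
    change ((8 : ℕ) : ℤ) = 2 - a - b
    push_cast
    omega) e

include hf in
theorem regular_of_isClass (H : Over (Spec (CommRingCat.of k))) (Z : FGA.HilbSet (ps f) H)
    (hH : FGA.HilbRepresentedBy (ps f) H Z) {c : Fin 5 → Fin 5 → k} (hc : c ∈ Par f 4) {x : ↥H.left}
    (hx : IsClass f H Z 4 c x) :
    IsRegularLocalRing (H.left.presheaf.stalk x) ∧ ringKrullDim (H.left.presheaf.stalk x) = 8 := by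
  obtain ⟨h, i, rfl, hi, hh⟩ := hx
  exact regular_quartic f hf H Z hH hc i hi h hh

end K654.QuartReg
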